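import Groth.Agent.DualPairLib.Main
import Groth.Agent.BlowRegLib.DualPair
import Groth.Agent.NefH1Lib.GorDual
import Groth.Agent.NefH1Lib.Subcurve.Basic
import Groth.Agent.CurveDualModLib.CM
import Groth.Agent.S0342
import Groth.Agent.NefH1Lib.Subcurve.Main

/-!
# The dualizing sheaf of a reduced curve at a regular point
-/

set_option autoImplicit false
set_option linter.style.haveILetI false
set_option linter.unusedSectionVars false
set_option maxHeartbeats 1000000
set_option synthInstance.maxHeartbeats 200000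
set_option backward.isDefEq.respectTransparency false
set_option backward.isDefEq.respectTransparency.types false

universe u

open CategoryTheory CategoryTheory.Limits AlgebraicGeometry DerivedCategory
open Groth.Agent Groth.Agent.DualCxLib
open DTenLib.Point (hH sg)

attribute [local instance] HasDerivedCategory.standard

noncomputable section

namespace RegDualLib

variable {X : Scheme.{u}}

/-- A dualizing complex is an invertible object near a point with Gorenstein local ring. -/
theorem invertibleD_at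
    [∀ (U V : Scheme.{u}) (j : U ⟶ V) [IsOpenImmersion j], PreservesFiniteLimits (Scheme.Modules.restrictFunctor j)]
    [∀ (R : CommRingCat.{u}), PreservesFiniteLimits (tilde.functor R)]
    [IsLocallyNoetherian X] {K : DCoh.D X} (hK : Dual2.IsDualizingSch X K) {x : X}
    (hx : LocCoh.IsGorensteinLocalRing (X.presheaf.stalk x)) :
    ∃ (U : X.Opens) (n : ℤ), x ∈ U ∧ Nonempty ((DCoh.restrictD U.ι).obj K ≅
      (DCoh.inD (U : Scheme.{u}) (Coh.structureModule (U : Scheme.{u})))⟦n⟧) := by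
  obtain ⟨A, _, _, j, _, p, rfl⟩ := chart_of_point x
  obtain ⟨ω, hω, ⟨c⟩⟩ := hK A j
  obtain ⟨t, e, ht, H⟩ := exists_free_nhd hω p (GorLib.gorenstein_of_ringEquiv (stalkRing j p).symm hx)
  obtain ⟨Z, η, -, hl, ⟨d⟩⟩ := exists_chart_loc (S := Localization.Away t) (Submonoid.powers t) j c
  obtain ⟨z⟩ := H Z η hl
  let j' := basicι t ≫ j
  refine ⟨j'.opensRange, -e, ?_, ⟨?_⟩⟩
  · obtain ⟨y, hy⟩ := (mem_range_basicι t p).2 ht
    refine ⟨y, ?_⟩
    show (basicι t ≫ j) y = j p
    rw [Scheme.Hom.comp_apply, hy]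
  · have h2 : j'.isoOpensRange.inv ≫ j' = j'.opensRange.ι := by
      rw [Iso.inv_comp_eq]; exact (Scheme.Hom.isoOpensRange_hom_ι j').symm
    exact restrictCongrIso h2.symm K ≪≫ restrictCompIso j'.isoOpensRange.inv j' K ≪≫
      (DCoh.restrictD j'.isoOpensRange.inv).mapIso (d ≪≫
        (DCoh.tildeD (CommRingCat.of (Localization.Away t))).mapIso z ≪≫
        ((DCoh.tildeD (CommRingCat.of (Localization.Away t))).commShiftIso (-e)).app _ ≪≫
        (shiftFunctor _ (-e)).mapIso (tildeInDSelf (CommRingCat.of (Localization.Away t)))) ≪≫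
      ((DCoh.restrictD j'.isoOpensRange.inv).commShiftIso (-e)).app _ ≪≫
      (shiftFunctor _ (-e)).mapIso (restrictInDUnit j'.isoOpensRange.inv)

/-- Near such a point the cohomology sheaf with nonzero stalk is free of rank one. -/
theorem iso_unit_at {K : DCoh.D X} {x : X} {U : X.Opens} {n : ℤ} (hxU : x ∈ U)
    (c : (DCoh.restrictD U.ι).obj K ≅ (DCoh.inD (U : Scheme.{u}) (Coh.structureModule (U : Scheme.{u})))⟦n⟧)
    (i : ℤ) (hnt : Nontrivial ((DCoh.HD K i).presheaf.stalk x)) :
    Nonempty ((DCoh.HD K i).restrict U.ι ≅ Coh.structureModule (U : Scheme.{u})) := by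
  let S := (singleFunctor (U : Scheme.{u}).Modules 0).obj (Coh.structureModule (U : Scheme.{u}))
  let eS : S⟦n⟧ ≅ (singleFunctor (U : Scheme.{u}).Modules (-n)).obj (Coh.structureModule (U : Scheme.{u})) :=
    ((singleFunctors (U : Scheme.{u}).Modules).shiftIso n (-n) 0 (by omega)).app _
  let e : (DCoh.HD K i).restrict U.ι ≅ (homologyFunctor (U : Scheme.{u}).Modules i).obj
      ((singleFunctor (U : Scheme.{u}).Modules (-n)).obj (Coh.structureModule (U : Scheme.{u}))) :=
    ((DerLib.ExactHomology.homologyIso (Scheme.Modules.restrictFunctor U.ι) i).app K).symm ≪≫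
      (homologyFunctor _ i).mapIso (c ≪≫ eS)
  obtain rfl : i = -n := by
    by_contra hne
    have hz : IsZero ((DCoh.HD K i).restrict U.ι) := by
      refine IsZero.of_iso ?_ e
      rcases lt_or_gt_of_ne hne with h | h
      · exact DerivedCategory.isZero_of_isGE _ (-n) i h
      · exact DerivedCategory.isZero_of_isLE _ (-n) i h
    have h0 : Subsingleton (((DCoh.HD K i).restrict U.ι).presheaf.stalk (⟨x, hxU⟩ : (U : Scheme.{u}))) :=
      (DCohRestrLib.isZero_iff_subsingleton_stalks _).1 hz _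
    have e2 := ((Scheme.Modules.restrictStalkNatIso U.ι (⟨x, hxU⟩ : (U : Scheme.{u}))).app
      (DCoh.HD K i)).addCommGroupIsoToAddEquiv
    exact not_subsingleton ((DCoh.HD K i).presheaf.stalk x) (@Function.Injective.subsingleton _ _ _ e2.symm.injective h0)
  exact ⟨e ≪≫ (singleFunctorCompHomologyFunctorIso _ (-n)).app _⟩

/-- A dualizing sheaf of a reduced curve is free of rank one near a regular point. -/
theorem free_at_regular {k : Type u} [Field k] [X.Over (Spec (CommRingCat.of k))]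
    [IsProper (X ↘ Spec (CommRingCat.of k))] [AlgebraicGeometry.IsReduced X] [ConnectedSpace X]
    (hdim : topologicalKrullDim X = 1)
    {ω : X.Modules} {tr : Coh.HH X ω 1 →ₗ[k] k} (hω : Canon.IsRDualOver k X 1 ω tr)
    {x : X} (hx : IsRegularLocalRing (X.presheaf.stalk x)) :
    Coh.IsCoh ω ∧ ∃ U : X.Opens, x ∈ U ∧ Nonempty (ω.restrict U.ι ≅ Coh.structureModule (U : Scheme.{u})) := by
  haveI : ∀ (R : CommRingCat.{u}), PreservesFiniteLimits (tilde.functor R) := fun R =>
    HensSchLib.tilde_preservesFiniteLimits R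
  haveI : ∀ (U V : Scheme.{u}) (j : U ⟶ V) [IsOpenImmersion j],
      PreservesFiniteLimits (Scheme.Modules.restrictFunctor j) := fun U V j _ => inferInstance
  let f := X ↘ Spec (CommRingCat.of k)
  haveI : IsLocallyNoetherian X := LocallyOfFiniteType.isLocallyNoetherian f
  haveI : CompactSpace X := QuasiCompact.compactSpace_of_compactSpace f
  haveI : IsNoetherian X := ⟨⟩
  haveI : DCoh.HasRpush f := DCohRestrLib.hasRpush f
  have hf : DCoh.RpushPreservesQCoh f := fun K hK => QRlimLib.isQCohD_rpush f hK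
  haveI := Groth.Agent.S1766.result X (Spec (CommRingCat.of k)) f hf
  let O : DCoh.DQCoh (Spec (CommRingCat.of k)) :=
    ⟨DCoh.inD _ (Coh.structureModule _), PerfBaseLib.isQCohD_inD _ QCohLib.isQCoh_unit⟩
  let F := DCoh.RpushQ f hf
  let adj := Adjunction.ofIsLeftAdjoint F
  have hd : topologicalKrullDim X ≤ ((1 : ℕ) : WithBot ℕ∞) := by simpa using hdim.le
  obtain ⟨hdual, hzero, -⟩ := Dual3Lib.amplitude f hf _ adj O (Iso.refl _) 1 hd
  have hge : ((F.rightAdjoint).obj O).obj.IsGE (-((1 : ℕ) : ℤ)) :=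
    (isGE_iff _ _).2 fun i hi => hzero i (Or.inl hi)
  obtain ⟨t, ht⟩ := Dual3Lib.exists_trace hf _ adj 1 0 (-((1 : ℕ) : ℤ)) (by omega) O (ω := Dual.inD k k)
    Dual3Lib.inDSpecIso.symm hge
  let β : (homologyFunctor (ModuleCat.{u} k) 0).obj (Dual.inD k k) ≃ₗ[k] k :=
    ((singleFunctorCompHomologyFunctorIso (ModuleCat.{u} k) 0).app (ModuleCat.of k k)).toLinearEquiv
  have hω₀ : Canon.IsRDualOver k X 1 (DCoh.HD ((F.rightAdjoint.obj O).obj) (-((1 : ℕ) : ℤ))) (β.toLinearMap.comp t) :=
    DualPairLib.isRDualOver_of_existsUnique ((F.rightAdjoint.obj O).property _) _ fun G hG g => by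
      obtain ⟨φ, hφ, huniq⟩ := ht G hG (fun j hj => CurvLib.subsingleton_HH_of_dim_le G hd j hj)
        (β.symm.toLinearMap.comp g)
      exact ⟨φ, fun x => β.symm_apply_eq.1 (hφ x), fun φ' hφ' => huniq φ' fun x => β.symm_apply_eq.2 (hφ' x)⟩
  obtain ⟨⟨ρ, hρ, -⟩, hiso⟩ := BlowRegLib.dual_pair_unique k 1 hω₀ hω
  haveI := hiso ρ hρ
  haveI := hx
  haveI := CommAlgDim.isDomain_of_isRegularLocalRing (X.presheaf.stalk x)
  obtain ⟨U, n, hxU, ⟨c⟩⟩ := invertibleD_at hdual (x := x) (Groth.Agent.S0342.result (X.presheaf.stalk x))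
  have hnt := ((Groth.Agent.S3637.result k X f (CurveDualModLib.isCM_of_reduced (X := X) hd) 1
    (NefH1Lib.Subcurve.equidim k hdim) hf _ adj O ⟨Iso.refl _⟩).2.2 x).1
  obtain ⟨g⟩ := iso_unit_at hxU c (-((1 : ℕ) : ℤ)) hnt
  exact ⟨QCohLib.isCoh_of_iso (asIso ρ).symm (Dual3Lib.isCohD_of_isDualizingSch hdual (-((1 : ℕ) : ℤ))), U, hxU, ⟨(Scheme.Modules.restrictFunctor U.ι).mapIso (asIso ρ) ≪≫ g⟩⟩

end RegDualLib

end
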