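import Groth.Agent.RegDualLib.Main
import Groth.Agent.GenusZeroLib.PointIdeal
import Groth.Agent.AmpleLib.Gen
import Groth.Agent.KFlatLib.StalkTensor
import Groth.Agent.CurvLib.EulerTensor
import Groth.Agent.HilbPolyLib.Twist

/-!
# Sections and the ideal of a closed point
-/

set_option autoImplicit false
set_option linter.style.haveILetI false
set_option linter.unusedSectionVars false
set_option maxHeartbeats 1000000
set_option synthInstance.maxHeartbeats 200000
set_option backward.isDefEq.respectTransparency false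
set_option backward.isDefEq.respectTransparency.types false

universe u

open CategoryTheory CategoryTheory.Limits AlgebraicGeometry TopologicalSpace MonoidalCategory
open DevissLib (St gm)
open AmpleLib (res GenAt GenOn)
open IsLocalRing (maximalIdeal)

noncomputable section

namespace RegDualLib

variable {X : Scheme.{u}}

theorem unitHom_eq {M : X.Modules} (s : Coh.structureModule X ⟶ M) :
    QCohLib.unitHom M (s.app ⊤ (1 : Γ(X, ⊤))) = s := by
  refine Scheme.Modules.hom_ext _ _ fun V => ?_
  refine ConcreteCategory.hom_ext _ _ fun (r : Γ(X, V)) => ?_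
  refine (QCohLib.unitHom_app M _ V r).trans ?_
  have h1 : M.presheaf.map (homOfLE (le_top : V ≤ ⊤)).op (s.app ⊤ (1 : Γ(X, ⊤))) = s.app V (1 : Γ(X, V)) := by
    refine (QCohLib.app_map s (homOfLE (le_top : V ≤ ⊤)) (1 : Γ(X, ⊤))).symm.trans ?_
    exact congrArg (s.app V) (map_one (X.presheaf.map (homOfLE (le_top : V ≤ ⊤)).op).hom)
  rw [h1, ← QCohLib.app_smul]
  exact congrArg (s.app V) (mul_one r)

theorem exists_genOn_of_restrict {M : X.Modules} {x : X} {U : X.Opens} (hxU : x ∈ U)
    (i : M.restrict U.ι ≅ Coh.structureModule (U : Scheme.{u})) :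
    ∃ (V : X.Opens) (e : Γ(M, V)), x ∈ V ∧ GenOn M e := by
  let U' := U.ι ''ᵁ (⊤ : U.toScheme.Opens)
  let e : Γ(M, U') := i.inv.app ⊤ (1 : Γ(U.toScheme, ⊤))
  refine ⟨U', e, ⟨⟨x, hxU⟩, trivial, rfl⟩, fun V hV => ?_⟩
  have hVU : V ≤ U := hV.trans (by simp only [U', Scheme.Opens.ι_image_top, le_refl])
  obtain ⟨W, rfl⟩ : ∃ W : U.toScheme.Opens, U.ι ''ᵁ W = V := ⟨U.ι ⁻¹ᵁ V, by
    rw [Scheme.Hom.image_preimage_eq_opensRange_inf, Scheme.Opens.opensRange_ι]
    exact inf_eq_right.mpr hVU⟩
  have key : ∀ r : Γ(U.toScheme, W),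
      i.inv.app W r = (show Γ(X, U.ι ''ᵁ W) from (U.ι.appIso W).inv r) • res M hV e := by
    intro r
    have h1 : (r : Γ(Coh.structureModule U.toScheme, W)) =
        r • ((Coh.structureModule U.toScheme).presheaf.map (homOfLE (le_top : W ≤ ⊤)).op
          (1 : Γ(U.toScheme, ⊤))) := by
      refine Eq.trans ?_ (congrArg (r • ·) (map_one (U.toScheme.presheaf.map (homOfLE (le_top : W ≤ ⊤)).op).hom).symm)
      exact (mul_one r).symm
    refine ((congrArg (i.inv.app W) h1).trans (Scheme.Modules.Hom.app_smul i.inv r _)).trans ?_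
    refine congrArg (fun t : Γ(M, U.ι ''ᵁ W) => (show Γ(X, U.ι ''ᵁ W) from (U.ι.appIso W).inv r) • t) ?_
    exact NatTrans.naturality_apply i.inv.mapPresheaf (homOfLE (le_top : W ≤ ⊤)).op (1 : Γ(U.toScheme, ⊤))
  have hb := (ConcreteCategory.bijective_of_isIso (i.inv.app W)).comp
    (ConcreteCategory.bijective_of_isIso (U.ι.appIso W).hom)
  have e' : (⇑(i.inv.app W) ∘ ⇑(U.ι.appIso W).hom) = fun r : Γ(X, U.ι ''ᵁ W) => r • res M hV e :=
    funext fun r => by
      refine (key _).trans ?_
      rw [← CommRingCat.comp_apply, Iso.hom_inv_id]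
      rfl
  exact e' ▸ hb

/-- A generating section puts the point in the locus where it is an isomorphism. -/
theorem genAt_of_mem_genLocus {M : X.Modules} (σ : Γ(M, ⊤)) {x : X}
    (hx : x ∈ CohB1.genLocus M (QCohLib.unitHom M σ)) : GenAt M σ (show x ∈ (⊤ : X.Opens) from trivial) := by
  obtain ⟨(U : X.Opens), hU, hxU⟩ := Opens.mem_sSup.mp hx
  have hU' : IsIso ((Scheme.Modules.restrictFunctor U.ι).map (QCohLib.unitHom M σ)) := hU
  rw [← AmpleLib.genAt_res (le_top : U ≤ ⊤) σ hxU]
  refine GenOn.genAt (fun V hV => ?_) hxU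
  have hb := ConcreteCategory.bijective_of_isIso
    (((Scheme.Modules.restrictFunctor U.ι).map (QCohLib.unitHom M σ)).app (U.ι ⁻¹ᵁ V))
  have eV : U.ι ''ᵁ (U.ι ⁻¹ᵁ V) = V := by
    rw [Scheme.Hom.image_preimage_eq_opensRange_inf, Scheme.Opens.opensRange_ι]
    exact inf_eq_right.mpr hV
  change Function.Bijective ((QCohLib.unitHom M σ).app (U.ι ''ᵁ (U.ι ⁻¹ᵁ V))) at hb
  rw [eV] at hb
  simp only [AmpleLib.res_res]
  exact hb

/-- A section generating on an open set is an isomorphism there. -/
theorem le_genLocus {M : X.Modules} (σ : Γ(M, ⊤)) (W : X.Opens)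
    (h : ∀ x ∈ W, GenAt M σ (show x ∈ (⊤ : X.Opens) from trivial)) :
    W ≤ CohB1.genLocus M (QCohLib.unitHom M σ) := by
  refine le_sSup ?_
  change IsIso ((Scheme.Modules.restrictFunctor W.ι).map (QCohLib.unitHom M σ))
  rw [Scheme.Modules.Hom.isIso_iff_isIso_app]
  intro V
  change IsIso ((QCohLib.unitHom M σ).app (W.ι ''ᵁ V))
  refine (ConcreteCategory.isIso_iff_bijective _).mpr ?_
  refine TopCat.Presheaf.app_bijective_of_stalkFunctor_map_bijective
    (C := AddCommGrpCat.{u}) ((QCohLib.toAbF X).map (QCohLib.unitHom M σ)) (W.ι ''ᵁ V) fun x hx => ?_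
  have hxW : x ∈ W := by
    have := hx
    obtain ⟨y, -, rfl⟩ := this
    exact y.2
  have hg := h x hxW
  have h1 := (AmpleLib.one_genOn (X := X) ⊤).genAt (x := x) (trivial : x ∈ (⊤ : X.Opens))
  let f := ((DerSch.stalkFunctor X x).map (QCohLib.unitHom M σ)).hom
  have hf1 : f ((Coh.structureModule X).presheaf.germ ⊤ x trivial (1 : Γ(X, ⊤))) =
      M.presheaf.germ ⊤ x trivial σ := by
    refine (DerSch.stalkFunctor_map_germ x (QCohLib.unitHom M σ) ⊤ trivial _).trans ?_
    rw [QCohLib.unitHom_app, one_smul]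
    exact AmpleLib.germ_res M _ σ _
  change Function.Bijective f
  refine (Function.Bijective.of_comp_iff f h1).mp ?_
  have e : (⇑f ∘ fun c : X.presheaf.stalk x =>
      c • (Coh.structureModule X).presheaf.germ ⊤ x trivial (1 : Γ(X, ⊤))) =
      fun c => c • M.presheaf.germ ⊤ x trivial σ :=
    funext fun c => (f.map_smul c _).trans (congrArg (c • ·) hf1)
  exact e.symm ▸ hg

/-- A section of a module free near `x` generates there or vanishes at `x`. -/
theorem mem_genLocus_or_mem_smul {M : X.Modules} {x : X} {U : X.Opens} (hxU : x ∈ U)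
    (i : M.restrict U.ι ≅ Coh.structureModule (U : Scheme.{u})) (σ : Γ(M, ⊤)) :
    x ∈ CohB1.genLocus M (QCohLib.unitHom M σ) ∨
      gm M x (show x ∈ (⊤ : X.Opens) from trivial) σ ∈
        maximalIdeal (X.presheaf.stalk x) • (⊤ : Submodule (X.presheaf.stalk x) ((St x).obj M)) := by
  obtain ⟨V, e, hxV, he⟩ := exists_genOn_of_restrict hxU i
  obtain ⟨a, ha⟩ := (he V le_rfl).2 (res M (le_top : V ≤ ⊤) σ)
  have ha' : a • e = res M (le_top : V ≤ ⊤) σ := by simpa [AmpleLib.res] using ha
  by_cases hxa : x ∈ X.basicOpen a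
  · left
    refine le_genLocus σ (X.basicOpen a) (fun y hy => ?_) hxa
    have hyV : y ∈ V := X.basicOpen_le a hy
    rw [← AmpleLib.genAt_res (le_top : V ≤ ⊤) σ hyV, ← ha', AmpleLib.genAt_smul_iff a e hyV (he.genAt hyV)]
    exact hy
  · right
    rw [Scheme.mem_basicOpen X a x hxV] at hxa
    have h1 : gm M x (show x ∈ (⊤ : X.Opens) from trivial) σ = X.presheaf.germ V x hxV a • gm M x hxV e := by
      refine (DevissLib.gm_map M (le_top : V ≤ ⊤) x hxV σ).symm.trans ?_
      show gm M x hxV (res M (le_top : V ≤ ⊤) σ) = _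
      rw [← ha']
      exact AmpleLib.germ_smul M a e hxV
    rw [h1]
    exact Submodule.smul_mem_smul hxa trivial

variable {p : X} (hp : IsClosed ({p} : Set X))

/-- The maximal ideal kills the residue sheaf. -/
theorem smul_quot_eq_zero {c : X.presheaf.stalk p} (hc : c ∈ maximalIdeal (X.presheaf.stalk p))
    (v : (St p).obj (ClSub.quotMod (GenusZeroLib.ptIdeal hp))) : c • v = 0 := by
  obtain ⟨w, rfl⟩ := (ModuleCat.epi_iff_surjective ((St p).map (ClSub.toSubscheme (GenusZeroLib.ptIdeal hp)))).mp
    inferInstance v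
  obtain ⟨t, rfl⟩ := ((AmpleLib.one_genOn (X := X) ⊤).genAt (show p ∈ (⊤ : X.Opens) from trivial)).2 w
  obtain ⟨V, hpV, r, rfl⟩ := X.presheaf.exists_germ_eq (x := p) c
  rw [← map_smul, smul_comm, map_smul]
  refine smul_eq_zero_of_right t ?_
  have h1 : X.presheaf.germ V p hpV r • (Coh.structureModule X).presheaf.germ ⊤ p trivial (1 : Γ(X, ⊤)) =
      gm (Coh.structureModule X) p hpV (show Γ(Coh.structureModule X, V) from r) := by
    rw [← AmpleLib.germ_res (Coh.structureModule X) (le_top : V ≤ ⊤) (show Γ(Coh.structureModule X, ⊤) from (1 : Γ(X, ⊤))) hpV,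
      ← AmpleLib.germ_smul]
    refine congrArg (gm (Coh.structureModule X) p hpV) ?_
    exact (congrArg (r • ·) (map_one (X.presheaf.map (homOfLE (le_top : V ≤ ⊤)).op).hom)).trans (mul_one r)
  refine (congrArg ((St p).map (ClSub.toSubscheme (GenusZeroLib.ptIdeal hp))).hom h1).trans ?_
  rw [DevissLib.gm_app]
  have h2 : (ClSub.toSubscheme (GenusZeroLib.ptIdeal hp)).app V (show Γ(Coh.structureModule X, V) from r) = 0 := by
    refine (GenusZeroLib.ptIdeal_app_eq_zero_iff hp r).mpr fun h => ?_
    rw [Scheme.mem_basicOpen X r p hpV] at h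
    exact hc h
  rw [h2]; exact map_zero _

/-- The ideal of the point lands in the maximal ideal. -/
theorem range_ideal_le (w : (St p).obj (ClSub.idealMod (GenusZeroLib.ptIdeal hp))) :
    ((St p).map (ClSub.idealModι (GenusZeroLib.ptIdeal hp))).hom w ∈
      maximalIdeal (X.presheaf.stalk p) • (⊤ : Submodule (X.presheaf.stalk p) ((St p).obj (Coh.structureModule X))) := by
  let v := (Coh.structureModule X).presheaf.germ ⊤ p trivial (1 : Γ(X, ⊤))
  obtain ⟨t, ht⟩ := ((AmpleLib.one_genOn (X := X) ⊤).genAt (show p ∈ (⊤ : X.Opens) from trivial)).2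
    (((St p).map (ClSub.idealModι (GenusZeroLib.ptIdeal hp))).hom w)
  refine ht ▸ Submodule.smul_mem_smul (fun hu => ?_) trivial
  have h0 : ((St p).map (ClSub.toSubscheme (GenusZeroLib.ptIdeal hp))).hom
      (((St p).map (ClSub.idealModι (GenusZeroLib.ptIdeal hp))).hom w) = 0 := by
    rw [← LinearMap.comp_apply, ← ModuleCat.hom_comp, ← Functor.map_comp,
      show ClSub.idealModι _ ≫ ClSub.toSubscheme (GenusZeroLib.ptIdeal hp) = 0 from kernel.condition _,
      Functor.map_zero]
    rfl
  rw [← ht, map_smul] at h0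
  have h1 := (hu.smul_eq_zero).mp h0
  refine NefH1Lib.Subcurve.nontrivial_quotMod_stalk (GenusZeroLib.ptIdeal hp) (x := p) ?_ ?_
  · rw [Scheme.IdealSheafData.coe_support_vanishingIdeal]
    rfl
  · exact (DevissLib.gm_app (ClSub.toSubscheme (GenusZeroLib.ptIdeal hp)) p (U := ⊤) trivial _).symm.trans h1

/-- Twisted, the ideal lands in the maximal ideal times everything. -/
theorem range_tensor_le (A : X.Modules) (a : (St p).obj (CohB1.tensorMod A (ClSub.idealMod (GenusZeroLib.ptIdeal hp)))) :
    ((St p).map (SerreVanLib.tmap A (ClSub.idealModι (GenusZeroLib.ptIdeal hp)))).hom a ∈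
      maximalIdeal (X.presheaf.stalk p) •
        (⊤ : Submodule (X.presheaf.stalk p) ((St p).obj (CohB1.tensorMod A (Coh.structureModule X)))) := by
  let ι := ClSub.idealModι (GenusZeroLib.ptIdeal hp)
  let e := KFlatLib.stalkTensorIso A (ClSub.idealMod (GenusZeroLib.ptIdeal hp)) p
  let e' := KFlatLib.stalkTensorIso A (Coh.structureModule X) p
  obtain ⟨b, rfl⟩ := (ModuleCat.epi_iff_surjective e.hom).mp inferInstance a
  have hnat := congrArg (fun f => (ModuleCat.Hom.hom f) b) (KFlatLib.stalkTensorIso_natural_right (M := A) p ι)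
  refine (show ((St p).map (SerreVanLib.tmap A ι)).hom (e.hom b) =
    e'.hom (LinearMap.lTensor ((St p).obj A) ((St p).map ι).hom b) from hnat.symm).symm ▸ ?_
  clear hnat
  induction b using TensorProduct.induction_on with
  | zero => simp
  | tmul y w =>
    rw [LinearMap.lTensor_tmul]
    refine Submodule.smul_induction_on (range_ideal_le hp w) (fun c hc z _ => ?_) (fun z z' hz hz' => ?_)
    · rw [TensorProduct.tmul_smul, map_smul]
      exact Submodule.smul_mem_smul hc trivial
    · rw [TensorProduct.tmul_add, map_add]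
      exact add_mem hz hz'
  | add y z hy hz => rw [map_add, map_add]; exact add_mem hy hz

/-- A section vanishing at the point lifts to the twist by its ideal, when that twist is a submodule. -/
theorem exists_lift {ω : X.Modules} {U : X.Opens} (hpU : p ∈ U)
    (i : ω.restrict U.ι ≅ Coh.structureModule (U : Scheme.{u})) (s : Coh.structureModule X ⟶ ω)
    (hs : p ∉ CohB1.genLocus ω s) :
    ∃ v : Coh.structureModule X ⟶ CohB1.tensorMod ω (ClSub.idealMod (GenusZeroLib.ptIdeal hp)),
      v ≫ SerreVanLib.tmap ω (ClSub.idealModι (GenusZeroLib.ptIdeal hp)) ≫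
        (KFlatLib.tensSwap (Coh.structureModule X) ω ≪≫ KFlatLib.tensUnitIso ω).hom = s := by
  let J := GenusZeroLib.ptIdeal hp
  let F : X.Modules ⥤ X.Modules := (DCoh.tensorBi (X := X)).obj ω
  haveI : PreservesColimitsOfSize.{u, u} F := ModSiteLib.preservesColimits_tensor X.sheaf ω
  haveI : PreservesColimitsOfSize.{0, 0} F := preservesColimitsOfSize_shrink.{0, u, 0, u} F
  let w : F.obj (Coh.structureModule X) ≅ ω := KFlatLib.tensSwap (Coh.structureModule X) ω ≪≫ KFlatLib.tensUnitIso ω
  haveI : Mono (F.map (ClSub.idealModι J)) := by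
    refine Preadditive.mono_of_cancel_zero _ fun {W} g hg => NefH1Lib.Subcurve.eq_zero_of_stalks' g fun x => ?_
    refine LinearMap.ext fun a => ?_
    have hinj : Function.Injective ((St x).map (F.map (ClSub.idealModι J))).hom := by
      let e := KFlatLib.stalkTensorIso ω (ClSub.idealMod J) x
      let e' := KFlatLib.stalkTensorIso ω (Coh.structureModule X) x
      haveI : Mono (ClSub.idealModι J) := inferInstanceAs (Mono (kernel.ι (ClSub.toSubscheme J)))
      have hι : Function.Injective ((St x).map (ClSub.idealModι J)).hom :=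
        (ModuleCat.mono_iff_injective _).mp inferInstance
      have hl : Function.Injective (LinearMap.lTensor ((St x).obj ω) ((St x).map (ClSub.idealModι J)).hom) := by
        by_cases hx : x = p
        · subst hx
          obtain ⟨V, e0, hxV, he⟩ := exists_genOn_of_restrict hpU i
          haveI : Module.Flat (X.presheaf.stalk x) ((St x).obj ω) := Module.Flat.of_linearEquiv
            (LinearEquiv.ofBijective (LinearMap.toSpanSingleton (X.presheaf.stalk x) ((St x).obj ω)
              (gm ω x hxV e0)) (he.genAt hxV)).symm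
          exact Module.Flat.lTensor_preserves_injective_linearMap _ hι
        · exact (LinearEquiv.lTensor ((St x).obj ω) (LinearEquiv.ofBijective _ ⟨hι,
            NefH1Lib.Subcurve.surjective_idealModι J (x := x) (by
              rw [Scheme.IdealSheafData.coe_support_vanishingIdeal]
              exact hx)⟩)).injective
      intro a a' haa
      obtain ⟨b, rfl⟩ := (ModuleCat.epi_iff_surjective e.hom).mp inferInstance a
      obtain ⟨b', rfl⟩ := (ModuleCat.epi_iff_surjective e.hom).mp inferInstance a'
      have hn := KFlatLib.stalkTensorIso_natural_right (M := ω) x (ClSub.idealModι J)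
      have h1 := congrArg (fun f => (ModuleCat.Hom.hom f) b) hn
      have h2 := congrArg (fun f => (ModuleCat.Hom.hom f) b') hn
      have h3 : e'.hom (LinearMap.lTensor ((St x).obj ω) ((St x).map (ClSub.idealModι J)).hom b) =
          e'.hom (LinearMap.lTensor ((St x).obj ω) ((St x).map (ClSub.idealModι J)).hom b') :=
        (h1.trans haa).trans h2.symm
      exact congrArg e.hom (hl ((ModuleCat.mono_iff_injective e'.hom).mp inferInstance h3))
    refine hinj ?_
    rw [LinearMap.zero_apply, map_zero, ← LinearMap.comp_apply, ← ModuleCat.hom_comp, ← Functor.map_comp, hg,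
      Functor.map_zero]
    rfl
  let C : ShortComplex X.Modules := ShortComplex.mk (F.map (ClSub.idealModι J)) (F.map (ClSub.toSubscheme J)) (by
    rw [← Functor.map_comp, show ClSub.idealModι J ≫ ClSub.toSubscheme J = 0 from kernel.condition _, Functor.map_zero])
  have hC : C.Exact := ShortComplex.exact_of_g_is_cokernel _
    (CokernelCofork.mapIsColimit _ (CurvLib.idealSeq_shortExact J).gIsCokernel F)
  have hzero : (s ≫ w.inv) ≫ F.map (ClSub.toSubscheme J) = 0 := by
    refine NefH1Lib.Subcurve.eq_zero_of_stalks' _ fun x => LinearMap.ext fun a => ?_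
    let e := KFlatLib.stalkTensorIso ω (ClSub.quotMod J) x
    by_cases hx : x = p
    · subst hx
      have hkill : ∀ c ∈ maximalIdeal (X.presheaf.stalk x), ∀ z : (St x).obj (F.obj (ClSub.quotMod J)), c • z = 0 := by
        intro c hc z
        obtain ⟨b, rfl⟩ := (ModuleCat.epi_iff_surjective e.hom).mp inferInstance z
        rw [← map_smul]
        induction b using TensorProduct.induction_on with
        | zero => rw [smul_zero]; exact map_zero _
        | tmul y v => rw [← TensorProduct.tmul_smul, smul_quot_eq_zero hp hc, TensorProduct.tmul_zero, map_zero]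
        | add y z hy hz => rw [smul_add, map_add, hy, hz, add_zero]
      have hmem := (mem_genLocus_or_mem_smul hpU i (s.app ⊤ (1 : Γ(X, ⊤)))).resolve_left (by rwa [unitHom_eq])
      obtain ⟨t, rfl⟩ := ((AmpleLib.one_genOn (X := X) ⊤).genAt (show x ∈ (⊤ : X.Opens) from trivial)).2 a
      rw [map_smul, LinearMap.zero_apply, Category.assoc, Functor.map_comp, ModuleCat.hom_comp, LinearMap.comp_apply]
      refine smul_eq_zero_of_right t ?_
      have h1 : ((St x).map s).hom ((Coh.structureModule X).presheaf.germ ⊤ x trivial (1 : Γ(X, ⊤))) =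
          gm ω x (show x ∈ (⊤ : X.Opens) from trivial) (s.app ⊤ (1 : Γ(X, ⊤))) :=
        DevissLib.gm_app s x (U := ⊤) trivial _
      rw [h1]
      refine Submodule.smul_induction_on hmem (fun c hc y _ => ?_) (fun y z hy hz => ?_)
      · rw [map_smul]
        exact hkill c hc _
      · rw [map_add, hy, hz, add_zero]
    · haveI := not_not.mp fun hs' : ¬ Subsingleton ((St x).obj (ClSub.quotMod J)) => hx (by
        have := CurvLib.support_quotMod_subset J hs'
        rw [Scheme.IdealSheafData.coe_support_vanishingIdeal] at this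
        exact this)
      haveI : Subsingleton ((St x).obj (F.obj (ClSub.quotMod J))) := subsingleton_of_forall_eq 0 fun z => by
        obtain ⟨b, rfl⟩ := (ModuleCat.epi_iff_surjective e.hom).mp inferInstance z
        induction b using TensorProduct.induction_on with
        | zero => exact map_zero _
        | tmul y v => rw [Subsingleton.elim v 0, TensorProduct.tmul_zero, map_zero]
        | add y z hy hz => rw [map_add, hy, hz, add_zero]
      exact Subsingleton.elim (α := ((St x).obj (F.obj (ClSub.quotMod J)))) _ _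
  haveI : Mono C.f := inferInstanceAs (Mono (F.map (ClSub.idealModι J)))
  refine ⟨hC.lift (s ≫ w.inv) hzero, ?_⟩
  show hC.lift (s ≫ w.inv) hzero ≫ C.f ≫ w.hom = s
  rw [hC.lift_f_assoc, Category.assoc, w.inv_hom_id, Category.comp_id]

end RegDualLib

end
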